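import Mathlib

/-!
Finite computations on eleven points.
-/

set_option autoImplicit false

namespace CfsgLib.PrimeDegree.Eleven

/-- The eleven points. -/
abbrev F11 := ZMod 11

/-- The first inverting involution. -/
def yA : F11 → F11 := ![0, 1, 10, 4, 3, 9, 7, 6, 8, 5, 2]

/-- The second inverting involution. -/
def yB : F11 → F11 := ![0, 9, 6, 3, 5, 4, 2, 8, 7, 1, 10]

/-- A map `f` with `f (3 j) = k f j`, given by two values. -/
def cand (k c e : F11) : F11 → F11 :=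
  ![0, c, e, k * c, k ^ 4 * c, k ^ 3 * c, k * e, k ^ 2 * e, k ^ 4 * e, k ^ 2 * c, k ^ 3 * e]

/-- A word in the shift and `f`. -/
def word (f : F11 → F11) : List F11 → F11 → F11
  | [] => id
  | k :: ks => fun j => k + f (word f ks j)

/-- A point of period seven of a word. -/
def seven (f : F11 → F11) (w : List F11) (j : F11) : Bool :=
  decide ((word f w)^[7] j = j) && decide (word f w j ≠ j)

/-- Witnesses for the multiplier four. -/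
def tab4 : List (F11 × F11 × List F11 × F11) :=
  [(1, 2, [1, 1, 6], 0),
  (1, 6, [1, 1, 5], 1),
  (1, 7, [1, 3, 4], 0),
  (2, 1, [1, 1, 5], 0),
  (2, 3, [1], 2),
  (2, 4, [2], 1),
  (2, 5, [5], 0),
  (2, 9, [1], 2),
  (3, 6, [1, 4, 3], 0),
  (3, 7, [1, 3, 5], 1),
  (3, 10, [1, 2, 2], 1),
  (4, 2, [1, 2, 7], 1),
  (4, 6, [1, 1, 6], 0),
  (4, 8, [1, 1, 9], 0),
  (5, 2, [1, 1, 9], 1),
  (5, 8, [1, 1, 4], 1),
  (5, 10, [1, 1, 6], 0),
  (6, 1, [9], 0),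
  (6, 3, [1, 3, 4], 0),
  (6, 4, [2], 1),
  (6, 5, [2], 0),
  (6, 9, [5], 2),
  (7, 1, [4], 0),
  (7, 3, [1], 0),
  (7, 4, [3], 1),
  (7, 5, [3], 1),
  (7, 9, [1, 1, 7], 0),
  (8, 1, [7], 0),
  (8, 3, [5], 1),
  (8, 4, [1, 1, 5], 0),
  (8, 5, [3], 0),
  (8, 9, [1], 0),
  (9, 7, [1, 2, 2], 0),
  (9, 8, [1, 1, 6], 2),
  (9, 10, [1, 1, 9], 1),
  (10, 1, [1], 3),
  (10, 3, [6], 1),
  (10, 4, [4], 2),
  (10, 5, [1, 1, 4], 0),
  (10, 9, [5], 0)]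

/-- Witnesses for the multiplier three. -/
def tab3 : List (F11 × F11 × List F11 × F11) :=
  [(1, 6, [0, 2], 1),
  (1, 7, [2], 1),
  (1, 8, [0, 1], 2),
  (1, 10, [1], 3),
  (2, 1, [1, 1, 3], 2),
  (2, 3, [1], 0),
  (2, 5, [1], 0),
  (2, 9, [0, 0, 1], 0),
  (3, 2, [0, 1], 2),
  (3, 7, [2], 0),
  (3, 8, [1, 6], 0),
  (3, 10, [0, 1], 0),
  (4, 2, [0, 2], 1),
  (4, 6, [1, 2], 0),
  (4, 7, [0, 2], 0),
  (4, 10, [1], 0),
  (5, 2, [2], 1),
  (5, 6, [0, 2], 0),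
  (5, 7, [1, 3], 2),
  (5, 8, [2], 0),
  (6, 3, [1], 0),
  (6, 4, [1, 1, 3], 0),
  (6, 5, [1], 0),
  (6, 9, [0, 0, 1], 0),
  (7, 1, [2], 0),
  (7, 4, [1], 0),
  (7, 5, [1, 1, 4], 0),
  (7, 9, [1], 0),
  (8, 1, [1], 0),
  (8, 3, [1, 1, 4], 2),
  (8, 4, [2], 0),
  (8, 9, [1], 0),
  (9, 2, [1], 2),
  (9, 6, [1], 0),
  (9, 8, [0, 1], 0),
  (9, 10, [1, 2], 2),
  (10, 1, [0, 0, 1], 0),
  (10, 3, [2], 0),
  (10, 4, [0, 0, 1], 0),
  (10, 5, [2], 0)]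

/-- Lookup of a witness. -/
def hit (k : F11) (t : List (F11 × F11 × List F11 × F11)) (c e : F11) : Bool :=
  t.any fun x => decide (x.1 = c) && decide (x.2.1 = e) && seven (cand k c e) x.2.2.1 x.2.2.2

theorem cand4_cases : ∀ c e : F11, c = 0 ∨ e = 0 ∨ (∃ i : Fin 5, e = 4 ^ (i : ℕ) * c) ∨
    (∃ i : Fin 5, (∀ j, cand 4 c e j = yA (3 ^ (i : ℕ) * j)) ∨ ∀ j, cand 4 c e j = yB (3 ^ (i : ℕ) * j)) ∨
    hit 4 tab4 c e = true := by
  decide +kernel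

theorem cand3_cases : ∀ c e : F11, c = 0 ∨ e = 0 ∨ (∃ i : Fin 5, e = 3 ^ (i : ℕ) * c) ∨
    (∀ j, cand 3 c e j = c * j) ∨ hit 3 tab3 c e = true := by
  decide +kernel

theorem yA_neg_seven : seven (fun j => yA (-j)) [5] 0 = true := by decide +kernel

theorem yB_neg_seven : seven (fun j => yB (-j)) [1] 3 = true := by decide +kernel

theorem units_eleven : ∀ c : F11, c ≠ 0 → (∃ i : Fin 5, c = 3 ^ (i : ℕ)) ∨ c ^ 5 = -1 := by decide +kernel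

theorem sign_neg : Equiv.Perm.sign (Equiv.neg F11) = -1 := by decide +kernel

theorem cand_eq : ∀ j : F11, j = 0 ∨ (∃ i : Fin 5, j = 3 ^ (i : ℕ)) ∨ ∃ i : Fin 5, j = 2 * 3 ^ (i : ℕ) := by
  decide +kernel

theorem cand_pow : ∀ k c e : F11, ∀ i : Fin 5, k = 3 ∨ k = 4 →
    cand k c e (3 ^ (i : ℕ)) = k ^ (i : ℕ) * c ∧ cand k c e (2 * 3 ^ (i : ℕ)) = k ^ (i : ℕ) * e := by
  intro k c e i hk
  fin_cases i <;> exact ⟨by simp [cand] <;> rfl, by simp [cand] <;> rfl⟩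

/-- The Bruhat formula. -/
def bru (y : F11 → F11) (a b c d : F11) (j : F11) : F11 :=
  if c = 0 then a ^ 2 * j + a * b else y (c ^ 2 * j + c * d) + a * c ^ 9

theorem bruA : ∀ a b c d : F11, a * d - b * c = 1 → ∀ j, bru yA (-c) (-d) a b j = yA (bru yA a b c d j) := by
  decide +kernel

theorem bruB : ∀ a b c d : F11, a * d - b * c = 1 → ∀ j, bru yB (-c) (-d) a b j = yB (bru yB a b c d j) := by
  decide +kernel

theorem faithA : ∀ c d l : F11, c ≠ 0 → ¬ ∀ j : F11, yA (c ^ 2 * j + c * d) + l = j := by decide +kernel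

theorem faithB : ∀ c d l : F11, c ≠ 0 → ¬ ∀ j : F11, yB (c ^ 2 * j + c * d) + l = j := by decide +kernel

theorem scaleA : ∀ r j : F11, r ≠ 0 → yA (r ^ 18 * j) = r ^ 2 * yA j := by decide +kernel

theorem scaleB : ∀ r j : F11, r ≠ 0 → yB (r ^ 18 * j) = r ^ 2 * yB j := by decide +kernel

theorem invA : ∀ j : F11, yA (yA j) = j := by decide +kernel

theorem invB : ∀ j : F11, yB (yB j) = j := by decide +kernel

end CfsgLib.PrimeDegree.Eleven
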