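import Mathlib
import Cfsg.Agent.PrimeDegree.ElevenData
import Cfsg.Agent.SLn.Card

/-!
The action of `SL(2, 11)` on eleven points.
-/

set_option autoImplicit false

namespace CfsgLib.PrimeDegree.Eleven

instance factEleven : Fact (Nat.Prime 11) := ⟨by norm_num⟩

/-- An involution that extends the affine maps to the linear group. -/
structure GoodY (y : F11 → F11) : Prop where
  wmul : ∀ a b c d : F11, a * d - b * c = 1 → ∀ j, bru y (-c) (-d) a b j = y (bru y a b c d j)
  faith : ∀ c d l : F11, c ≠ 0 → ¬ ∀ j : F11, y (c ^ 2 * j + c * d) + l = j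
  scale : ∀ r j : F11, r ≠ 0 → y (r ^ 18 * j) = r ^ 2 * y j
  inv : ∀ j : F11, y (y j) = j

theorem goodA : GoodY yA := ⟨bruA, faithA, scaleA, invA⟩

theorem goodB : GoodY yB := ⟨bruB, faithB, scaleB, invB⟩

theorem pow_ten {c : F11} (hc : c ≠ 0) : c ^ 10 = 1 := ZMod.pow_card_sub_one_eq_one hc

variable {y : F11 → F11}

theorem bru_U (k a b c d : F11) (h : a * d - b * c = 1) (j : F11) :
    bru y (a + k * c) (b + k * d) c d j = k + bru y a b c d j := by
  by_cases hc : c = 0
  · simp only [bru, hc, if_pos, mul_zero, add_zero]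
    subst hc
    linear_combination k * h
  · simp only [bru, if_neg hc]
    linear_combination k * pow_ten hc

theorem bru_D (hy : GoodY y) {r : F11} (hr : r ≠ 0) (a b c d j : F11) :
    bru y (r * a) (r * b) (r ^ 9 * c) (r ^ 9 * d) j = r ^ 2 * bru y a b c d j := by
  by_cases hc : c = 0
  · simp only [bru, hc, if_pos, mul_zero]
    ring
  · have h9 : r ^ 9 * c ≠ 0 := mul_ne_zero (pow_ne_zero 9 hr) hc
    simp only [bru, if_neg hc, if_neg h9]
    rw [show (r ^ 9 * c) ^ 2 * j + r ^ 9 * c * (r ^ 9 * d) = r ^ 18 * (c ^ 2 * j + c * d) by ring,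
      hy.scale r _ hr]
    have hr80 : r ^ 80 = 1 := by rw [show 80 = 10 * 8 from rfl, pow_mul, pow_ten hr, one_pow]
    linear_combination a * c ^ 9 * r ^ 2 * hr80

theorem bru_mul (hy : GoodY y) {a b c d a' b' c' d' : F11} (hg : a * d - b * c = 1)
    (hh : a' * d' - b' * c' = 1) (j : F11) :
    bru y (a * a' + b * c') (a * b' + b * d') (c * a' + d * c') (c * b' + d * d') j
      = bru y a b c d (bru y a' b' c' d' j) := by
  by_cases hc : c = 0
  · subst hc
    have ha : a ≠ 0 := by
      intro h0
      rw [h0] at hg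
      exact zero_ne_one (by linear_combination hg : (0 : F11) = 1)
    have hd : d = a ^ 9 := by linear_combination (a ^ 9) * hg - d * pow_ten ha
    have hdet : (a * a') * (a ^ 9 * d') - (a * b') * (a ^ 9 * c') = 1 := by
      linear_combination pow_ten ha + a ^ 10 * hh
    have := bru_U (y := y) (a * b) _ _ _ _ hdet j
    rw [bru_D hy ha] at this
    rw [show a * a' + b * c' = a * a' + a * b * (a ^ 9 * c') by linear_combination -(b * c') * pow_ten ha,
      show a * b' + b * d' = a * b' + a * b * (a ^ 9 * d') by linear_combination -(b * d') * pow_ten ha,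
      show 0 * a' + d * c' = a ^ 9 * c' by rw [hd]; ring, show 0 * b' + d * d' = a ^ 9 * d' by rw [hd]; ring,
      this]
    simp only [bru, if_pos]
    ring
  · have h10 := pow_ten hc
    set A := a' + d * c ^ 9 * c' with hA
    set B := b' + d * c ^ 9 * d' with hB
    have hU : A * d' - B * c' = 1 := by linear_combination hh
    have hD : (c * A) * (c ^ 9 * d') - (c * B) * (c ^ 9 * c') = 1 := by
      linear_combination h10 + c ^ 10 * hU
    have hW : (-(c ^ 9 * c')) * (c * B) - (-(c ^ 9 * d')) * (c * A) = 1 := by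
      linear_combination h10 + c ^ 10 * hU
    have e := bru_U (y := y) (a * c ^ 9) _ _ _ _ hW j
    rw [hy.wmul _ _ _ _ hD, bru_D hy hc, bru_U (d * c ^ 9) a' b' c' d' hh] at e
    rw [show c * a' + d * c' = c * A by linear_combination -(d * c') * h10,
      show c * b' + d * d' = c * B by linear_combination -(d * d') * h10,
      show a * a' + b * c' = -(c ^ 9 * c') + a * c ^ 9 * (c * A) by
        linear_combination -(a * a' + b * c' + a * c ^ 9 * d * c') * h10 - c ^ 9 * c' * hg,
      show a * b' + b * d' = -(c ^ 9 * d') + a * c ^ 9 * (c * B) by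
        linear_combination -(a * b' + b * d' + a * c ^ 9 * d * d') * h10 - c ^ 9 * d' * hg,
      e]
    set F := bru y a' b' c' d' j
    simp only [bru, if_neg hc]
    rw [show c ^ 2 * (d * c ^ 9 + F) = c ^ 2 * F + c * d by linear_combination c * d * h10]
    ring

open scoped MatrixGroups

theorem det_eq (g : SL(2, F11)) : g 0 0 * g 1 1 - g 0 1 * g 1 0 = 1 := by
  rw [← Matrix.det_fin_two]
  exact g.2

/-- The action as a homomorphism to maps. -/
def endHom (hy : GoodY y) : SL(2, F11) →* Function.End F11 where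
  toFun g := bru y (g 0 0) (g 0 1) (g 1 0) (g 1 1)
  map_one' := by
    funext j
    simp [bru, Function.End.one_def]
  map_mul' g h := by
    funext j
    show bru y ((g * h) 0 0) ((g * h) 0 1) ((g * h) 1 0) ((g * h) 1 1) j = _
    simp only [Matrix.SpecialLinearGroup.coe_mul, Matrix.mul_apply, Fin.sum_univ_two]
    exact bru_mul hy (det_eq g) (det_eq h) j

/-- The permutation representation. -/
def permHom (hy : GoodY y) : SL(2, F11) →* Equiv.Perm F11 :=
  (Equiv.Perm.equivUnitsEnd.symm.toMonoidHom).comp (endHom hy).toHomUnits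

theorem permHom_apply (hy : GoodY y) (g : SL(2, F11)) (j : F11) :
    permHom hy g j = bru y (g 0 0) (g 0 1) (g 1 0) (g 1 1) j := rfl

theorem ker_permHom (hy : GoodY y) : (permHom hy).ker = Subgroup.center SL(2, F11) := by
  ext g
  rw [MonoidHom.mem_ker, Matrix.SpecialLinearGroup.mem_center_iff]
  have hg := det_eq g
  constructor
  · intro h
    have hj : ∀ j : F11, bru y (g 0 0) (g 0 1) (g 1 0) (g 1 1) j = j := fun j => by
      rw [← permHom_apply hy, h, Equiv.Perm.one_apply]
    by_cases hc : g 1 0 = 0
    · have h0 := hj 0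
      have h1 := hj 1
      simp only [bru, if_pos hc, mul_zero, zero_add, mul_one] at h0 h1
      rw [h0, add_zero] at h1
      rw [hc, mul_zero, sub_zero] at hg
      have ha : g 0 0 ≠ 0 := fun e => by rw [e, zero_mul] at hg; exact zero_ne_one hg
      have hb : g 0 1 = 0 := (mul_eq_zero.mp h0).resolve_left ha
      refine ⟨g 0 0, by rw [Fintype.card_fin]; exact h1, ?_⟩
      ext i j
      fin_cases i <;> fin_cases j
      · simp [Matrix.scalar_apply]
      · simp [Matrix.scalar_apply, hb]
      · simp [Matrix.scalar_apply, hc]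
      · simp [Matrix.scalar_apply]
        exact mul_left_cancel₀ ha (by rw [hg, ← pow_two]; exact h1)
    · exfalso
      refine hy.faith (g 1 0) (g 1 1) (g 0 0 * g 1 0 ^ 9) hc fun j => ?_
      have := hj j
      simpa only [bru, if_neg hc] using this
  · rintro ⟨r, hr, hrg⟩
    rw [Fintype.card_fin] at hr
    refine Equiv.ext fun j => ?_
    rw [permHom_apply, Equiv.Perm.one_apply, ← hrg]
    simp [bru, Matrix.scalar_apply, hr]

/-- The faithful action of `PSL(2, 11)`. -/
noncomputable def pslHom (hy : GoodY y) :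
    Matrix.ProjectiveSpecialLinearGroup (Fin 2) F11 →* Equiv.Perm F11 :=
  QuotientGroup.lift _ (permHom hy) (le_of_eq (ker_permHom hy).symm)

theorem pslHom_injective (hy : GoodY y) : Function.Injective (pslHom hy) := by
  rw [← MonoidHom.ker_eq_bot_iff]
  unfold pslHom
  rw [QuotientGroup.ker_lift, ker_permHom, QuotientGroup.map_mk'_self]

theorem card_psl : Nat.card (Matrix.ProjectiveSpecialLinearGroup (Fin 2) F11) = 660 := by
  have h := CfsgLib.SLn.card_PSL_eq F11 2 (by norm_num)
  rw [ZMod.card, Fin.prod_univ_two] at h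
  simp only [Nat.reduceSub, Fin.val_zero, Fin.val_one, Nat.reducePow, show Nat.gcd 2 10 = 2 from rfl] at h
  omega

end CfsgLib.PrimeDegree.Eleven
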