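import Mathlib
import Cfsg.Agent.PrimeDegree.ElevenData

/-!
Small supports on eleven points.
-/

set_option autoImplicit false

namespace CfsgLib.PrimeDegree.Eleven

/-- Two transpositions. -/
def dbl (c d : F11) : F11 → F11 := fun j =>
  if j = 0 then 1 else if j = 1 then 0 else if j = c then d else if j = d then c else j

/-- Two three-cycles. -/
def tri (c d e f : F11) : F11 → F11 := fun j =>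
  if j = 0 then 1 else if j = 1 then c else if j = c then 0
  else if j = d then e else if j = e then f else if j = f then d else j

/-- Witnesses for two transpositions. -/
def tabD : List (F11 × F11 × List F11 × F11) :=
  [(2, 3, [5], 1), (2, 4, [1, 7], 0), (2, 5, [1], 0), (2, 6, [4], 0), (2, 7, [1, 5], 0), (2, 8, [1, 2], 0), (2, 9, [1], 3), (2, 10, [1, 3], 0), (3, 2, [5], 1), (3, 4, [5], 1), (3, 5, [2, 3], 2), (3, 6, [1], 0), (3, 7, [4], 0), (3, 8, [3, 4], 1), (3, 9, [3], 0), (3, 10, [1], 4), (4, 2, [1, 7], 0), (4, 3, [5], 1), (4, 5, [5], 1), (4, 6, [3, 5], 1), (4, 7, [1], 0), (4, 8, [1, 2], 1), (4, 9, [3, 4], 0), (4, 10, [1, 2], 0), (5, 2, [1], 0), (5, 3, [2, 3], 2), (5, 4, [5], 1), (5, 6, [1, 5], 2), (5, 7, [5], 2), (5, 8, [1], 0), (5, 9, [4], 0), (5, 10, [1, 5], 2), (6,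 2, [4], 0), (6, 3, [1], 0), (6, 4, [3, 5], 1), (6, 5, [1, 5], 2), (6, 7, [1, 5], 0), (6, 8, [3, 5], 2), (6, 9, [1], 0), (6, 10, [4], 0), (7, 2, [1, 5], 0), (7, 3, [4], 0), (7, 4, [1], 0), (7, 5, [5], 2), (7, 6, [1, 5], 0), (7, 8, [5], 1), (7, 9, [2, 3], 0), (7, 10, [1], 0), (8, 2, [1, 2], 0), (8, 3, [3, 4], 1), (8, 4, [1, 2], 1), (8, 5, [1], 0), (8, 6, [3, 5], 2), (8, 7, [5], 1), (8, 9, [5], 1), (8, 10, [1, 7], 1), (9, 2, [1], 3), (9, 3, [3], 0), (9, 4, [3, 4], 0), (9, 5, [4], 0), (9, 6, [1], 0), (9, 7, [2, 3], 0), (9, 8, [5], 1), (9, 10, [5], 1), (10, 2, [1, 3], 0), (10, 3, [1], 4), (10, 4, [1, 2], 0), (10, 5, [1, 5], 2), (10, 6, [4], 0), (10, 7, [1], 0), (10, 8, [1, 7], 1), (10, 9, [5], 1)]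

/-- Witnesses for two three-cycles. -/
def tabT : List (List (List (F11 × F11 × List F11 × F11))) :=
  [[[],
   [],
   [],
   [],
   [],
   [],
   [],
   [],
   [],
   [],
   []],
  [[],
   [],
   [],
   [],
   [],
   [],
   [],
   [],
   [],
   [],
   []],
  [[],
   [],
   [],
   [(4, 5, [10], 2),(4, 6, [5], 0),(4, 7, [5], 1),(4, 8, [2], 0),(4, 9, [2], 0),(4, 10, [7], 0),(5, 4, [5], 2),(5, 6, [3], 0),(5, 7, [3, 5], 0),(5, 8, [1, 8], 0),(5, 9, [3], 0),(5, 10, [5], 2),(6, 4, [8], 0),(6, 5, [1, 5], 2),(6, 7, [8], 0),(6, 8, [4], 0),(6, 9, [2], 0),(6, 10, [2], 0),(7, 4, [1], 0),(7, 5, [1], 0),(7, 6, [1], 0),(7, 8, [2], 1),(7, 9, [7], 1),(7, 10, [2], 1),(8, 4, [5], 2),(8, 5, [5], 2),(8, 6, [1, 4], 1),(8, 7, [1, 6], 2),(8, 9, [2], 0),(8, 10, [5], 2),(9, 4, [1, 3], 1),(9, 5, [4],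 1),(9, 6, [1, 2], 0),(9, 7, [4], 1),(9, 8, [3, 10], 0),(9, 10, [7], 1),(10, 4, [2], 0),(10, 5, [4], 1),(10, 6, [1, 2], 1),(10, 7, [1, 2], 1),(10, 8, [4], 0),(10, 9, [2], 0)],
   [(5, 6, [5], 0),(5, 7, [3], 1),(5, 8, [4], 0),(5, 9, [2], 1),(5, 10, [2], 0),(6, 5, [1, 4], 0),(6, 7, [9], 0),(6, 8, [1, 4], 0),(6, 9, [8], 0),(6, 10, [7], 0),(7, 5, [6], 1),(7, 6, [8], 0),(7, 8, [1, 3], 0),(7, 9, [8], 0),(7, 10, [2], 0),(8, 5, [1], 0),(8, 6, [1], 0),(8, 7, [1], 0),(8, 9, [2], 0),(8, 10, [3], 1),(9, 5, [5], 2),(9, 6, [5, 7], 3),(9, 7, [5, 7], 0),(9, 8, [5], 2),(9, 10, [2], 0),(10, 5, [3, 10], 0),(10, 6, [4], 0),(10, 7, [1, 2], 0),(10, 8, [4], 0),(10, 9, [1, 3], 1)],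
   [(6, 7, [6], 1),(6, 8, [3], 0),(6, 9, [1, 3], 0),(6, 10, [2], 0),(7, 6, [2, 8], 2),(7, 8, [3], 1),(7, 9, [1, 4], 0),(7, 10, [4], 1),(8, 6, [5], 0),(8, 7, [5], 1),(8, 9, [4], 0),(8, 10, [1, 8], 0),(9, 6, [1], 0),(9, 7, [1], 0),(9, 8, [1], 0),(9, 10, [2], 1),(10, 6, [1, 6], 0),(10, 7, [1, 4], 1),(10, 8, [5], 2),(10, 9, [5], 2)],
   [(7, 8, [6], 0),(7, 9, [9], 0),(7, 10, [8], 0),(8, 7, [2, 8], 2),(8, 9, [3], 0),(8, 10, [3, 5], 2),(9, 7, [8], 0),(9, 8, [6], 0),(9, 10, [5], 0),(10, 7, [1], 0),(10, 8, [1], 0),(10, 9, [1], 0)],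
   [(8, 9, [5], 1),(8, 10, [3], 1),(9, 8, [1, 4], 2),(9, 10, [5], 1),(10, 8, [1, 5], 0),(10, 9, [8], 0)],
   [(9, 10, [10], 2),(10, 9, [5], 2)],
   [],
   []],
  [[],
   [],
   [(4, 5, [5], 1),(4, 6, [3], 0),(4, 7, [3], 0),(4, 8, [2, 4], 0),(4, 9, [3], 0),(4, 10, [3], 0),(5, 4, [1], 0),(5, 6, [8], 0),(5, 7, [3], 0),(5, 8, [3], 0),(5, 9, [5], 1),(5, 10, [3], 0),(6, 4, [1, 10], 0),(6, 5, [10], 3),(6, 7, [7], 1),(6, 8, [1, 6], 0),(6, 9, [10], 1),(6, 10, [1, 7], 1),(7, 4, [1, 10], 0),(7, 5, [9], 0),(7, 6, [6], 0),(7, 8, [9], 2),(7, 9, [7], 1),(7, 10, [3], 0),(8, 4, [3], 0),(8, 5, [7], 0),(8, 6, [8], 0),(8, 7, [3], 0),(8, 9, [9], 0),(8, 10, [3], 0),(9, 4, [2], 1),(9, 5, [1, 5], 0),(9, 6, [2, 4], 0),(9, 7, [2], 1),(9, 8, [1], 1),(9, 10, [5], 1),(10, 4, [2], 0),(10, 5, [10], 1),(10,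 6, [2], 0),(10, 7, [1, 5], 0),(10, 8, [1], 1),(10, 9, [10], 3)],
   [],
   [(5, 6, [3], 1),(5, 7, [5], 1),(5, 8, [3], 0),(5, 9, [3], 1),(5, 10, [9], 3),(6, 5, [1, 5], 2),(6, 7, [1, 5], 0),(6, 8, [4], 0),(6, 9, [8], 2),(6, 10, [6], 0),(7, 5, [3], 0),(7, 6, [2, 5], 1),(7, 8, [3], 0),(7, 9, [8], 2),(7, 10, [3], 0),(8, 5, [1], 0),(8, 6, [1], 0),(8, 7, [1], 0),(8, 9, [1, 9], 1),(8, 10, [3, 6], 0),(9, 5, [1, 2], 0),(9, 6, [7], 0),(9, 7, [9], 0),(9, 8, [7], 1),(9, 10, [9], 3),(10, 5, [3], 0),(10, 6, [1, 7], 0),(10, 7, [9], 0),(10, 8, [3], 0),(10, 9, [9], 0)],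
   [(6, 7, [9], 0),(6, 8, [1, 9], 1),(6, 9, [8], 0),(6, 10, [1, 2], 0),(7, 6, [3], 0),(7, 8, [4], 2),(7, 9, [3], 0),(7, 10, [3], 0),(8, 6, [2], 0),(8, 7, [2], 0),(8, 9, [8], 0),(8, 10, [3], 0),(9, 6, [1], 0),(9, 7, [1], 0),(9, 8, [1], 0),(9, 10, [2, 4], 1),(10, 6, [2], 0),(10, 7, [9], 0),(10, 8, [1, 6], 0),(10, 9, [2], 0)],
   [(7, 8, [3], 1),(7, 9, [1, 9], 1),(7, 10, [1, 2], 0),(8, 7, [6], 0),(8, 9, [6], 0),(8, 10, [3], 0),(9, 7, [9], 0),(9, 8, [1, 8], 0),(9, 10, [1, 2], 0),(10, 7, [1], 0),(10, 8, [1], 0),(10, 9, [1], 0)],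
   [(8, 9, [3], 1),(8, 10, [5], 1),(9, 8, [5], 2),(9, 10, [5], 1),(10, 8, [2], 0),(10, 9, [2], 0)],
   [(9, 10, [5], 1),(10, 9, [3], 0)],
   [],
   []],
  [[],
   [],
   [(3, 5, [5], 1),(3, 6, [3, 6], 0),(3, 7, [7], 0),(3, 8, [1, 8], 1),(3, 9, [7], 0),(3, 10, [5], 1),(5, 3, [1], 0),(5, 6, [1, 5], 0),(5, 7, [9], 0),(5, 8, [6], 1),(5, 9, [1, 6], 0),(5, 10, [5], 1),(6, 3, [8], 2),(6, 5, [1, 10], 0),(6, 7, [5], 0),(6, 8, [4], 0),(6, 9, [10], 1),(6, 10, [9], 1),(7, 3, [1, 9], 1),(7, 5, [1, 2], 1),(7, 6, [2, 7], 0),(7, 8, [3], 0),(7, 9, [3], 0),(7, 10, [6], 1),(8, 3, [4], 0),(8, 5, [1, 4], 0),(8, 6, [5], 0),(8, 7, [2, 5], 0),(8, 9, [4], 0),(8, 10, [2, 4], 0),(9, 3, [1], 1),(9, 5, [10], 1),(9, 6, [8], 2),(9, 7, [1, 10], 0),(9, 8, [1], 1),(9, 10, [3, 6], 1),(10, 3, [1, 6], 0),(10, 5,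 [7], 0),(10, 6, [10], 1),(10, 7, [7], 0),(10, 8, [1], 1),(10, 9, [3], 0)],
   [(5, 6, [8], 2),(5, 7, [8], 0),(5, 8, [10], 1),(5, 9, [1, 5], 0),(5, 10, [5], 1),(6, 5, [1], 0),(6, 7, [2], 0),(6, 8, [5], 0),(6, 9, [10], 1),(6, 10, [2], 0),(7, 5, [8], 0),(7, 6, [3], 0),(7, 8, [4], 0),(7, 9, [3], 0),(7, 10, [10], 1),(8, 5, [3], 1),(8, 6, [3], 1),(8, 7, [2], 0),(8, 9, [1, 4], 1),(8, 10, [4], 0),(9, 5, [10], 1),(9, 6, [2], 1),(9, 7, [1, 3], 0),(9, 8, [2], 1),(9, 10, [2], 1),(10, 5, [1, 2], 1),(10, 6, [2], 0),(10, 7, [2], 0),(10, 8, [8], 0),(10, 9, [1], 1)],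
   [],
   [(6, 7, [8], 0),(6, 8, [1, 2], 0),(6, 9, [2], 0),(6, 10, [2], 0),(7, 6, [8], 0),(7, 8, [3], 0),(7, 9, [8], 0),(7, 10, [1, 6], 1),(8, 6, [4], 0),(8, 7, [6], 1),(8, 9, [2], 0),(8, 10, [1, 3], 0),(9, 6, [1], 0),(9, 7, [1], 0),(9, 8, [1], 0),(9, 10, [7], 0),(10, 6, [2], 0),(10, 7, [5], 1),(10, 8, [5], 1),(10, 9, [2], 0)],
   [(7, 8, [1, 3], 0),(7, 9, [8], 2),(7, 10, [2], 0),(8, 7, [4], 0),(8, 9, [8], 2),(8, 10, [8], 0),(9, 7, [10], 4),(9, 8, [6], 0),(9, 10, [2], 0),(10, 7, [1], 0),(10, 8, [1], 0),(10, 9, [1], 0)],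
   [(8, 9, [4], 1),(8, 10, [3], 0),(9, 8, [6], 0),(9, 10, [1, 2], 0),(10, 8, [10], 4),(10, 9, [5], 2)],
   [(9, 10, [5], 1),(10, 9, [4], 0)],
   [],
   []],
  [[],
   [],
   [(3, 4, [7], 0),(3, 6, [2], 0),(3, 7, [8], 0),(3, 8, [7], 0),(3, 9, [2], 1),(3, 10, [7], 2),(4, 3, [6], 0),(4, 6, [8], 0),(4, 7, [7], 0),(4, 8, [6], 0),(4, 9, [6], 0),(4, 10, [1, 2], 0),(6, 3, [10], 2),(6, 4, [1, 5], 3),(6, 7, [8], 0),(6, 8, [5], 1),(6, 9, [9], 0),(6, 10, [5], 0),(7, 3, [3], 0),(7, 4, [1, 6], 1),(7, 6, [4], 0),(7, 8, [1, 7], 1),(7, 9, [6], 0),(7, 10, [4], 0),(8, 3, [10], 2),(8, 4, [4], 0),(8, 6, [4], 0),(8, 7, [7], 0),(8, 9, [1, 2], 0),(8, 10, [1, 6], 0),(9, 3, [1], 1),(9, 4, [4], 0),(9, 6, [3], 0),(9, 7, [7], 2),(9, 8, [1], 1),(9, 10, [7], 2),(10, 3, [10], 2),(10, 4, [1], 1),(10, 6, [2],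 0),(10, 7, [10], 1),(10, 8, [1], 1),(10, 9, [2, 10], 0)],
   [(4, 6, [9], 0),(4, 7, [4], 1),(4, 8, [1, 2], 0),(4, 9, [8], 1),(4, 10, [8], 0),(6, 4, [1], 0),(6, 7, [5], 0),(6, 8, [9], 0),(6, 9, [4], 0),(6, 10, [1, 4], 0),(7, 4, [10], 3),(7, 6, [2, 4], 0),(7, 8, [1, 9], 1),(7, 9, [6], 0),(7, 10, [10], 1),(8, 4, [10], 3),(8, 6, [3], 0),(8, 7, [1, 8], 0),(8, 9, [3], 0),(8, 10, [6], 0),(9, 4, [7], 0),(9, 6, [10], 1),(9, 7, [7], 2),(9, 8, [7], 0),(9, 10, [8], 0),(10, 4, [1], 1),(10, 6, [3], 0),(10, 7, [3], 0),(10, 8, [1, 6], 1),(10, 9, [1], 1)],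
   [(6, 7, [7], 0),(6, 8, [5], 0),(6, 9, [10], 1),(6, 10, [5], 1),(7, 6, [1], 0),(7, 8, [4], 1),(7, 9, [1, 10], 0),(7, 10, [10], 1),(8, 6, [1, 2], 1),(8, 7, [9], 0),(8, 9, [3], 2),(8, 10, [3], 1),(9, 6, [5], 1),(9, 7, [9], 0),(9, 8, [2, 4], 0),(9, 10, [7], 0),(10, 6, [8], 0),(10, 7, [10], 1),(10, 8, [1, 6], 1),(10, 9, [8], 0)],
   [],
   [(7, 8, [2], 0),(7, 9, [1, 2], 1),(7, 10, [2], 0),(8, 7, [2, 4], 0),(8, 9, [1, 9], 1),(8, 10, [2, 5], 0),(9, 7, [7], 2),(9, 8, [4], 0),(9, 10, [7], 2),(10, 7, [1], 0),(10, 8, [1], 0),(10, 9, [1], 0)],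
   [(8, 9, [2], 0),(8, 10, [3], 1),(9, 8, [6], 0),(9, 10, [2, 4], 0),(10, 8, [1, 8], 0),(10, 9, [7], 2)],
   [(9, 10, [2], 0),(10, 9, [6], 0)],
   [],
   []],
  [[],
   [],
   [(3, 4, [2], 0),(3, 5, [9], 0),(3, 7, [7], 1),(3, 8, [3], 0),(3, 9, [7], 1),(3, 10, [1, 8], 0),(4, 3, [1, 3], 0),(4, 5, [9], 0),(4, 7, [3], 0),(4, 8, [9], 1),(4, 9, [1, 3], 0),(4, 10, [3], 0),(5, 3, [2], 0),(5, 4, [2], 0),(5, 7, [3], 0),(5, 8, [3], 0),(5, 9, [8], 0),(5, 10, [3], 0),(7, 3, [3], 0),(7, 4, [2], 0),(7, 5, [2], 0),(7, 8, [6], 0),(7, 9, [3], 0),(7, 10, [3], 0),(8, 3, [1, 2], 0),(8, 4, [3], 0),(8, 5, [1, 3], 0),(8, 7, [3], 0),(8, 9, [8], 0),(8, 10, [3], 0),(9, 3, [1], 1),(9, 4, [2], 0),(9, 5, [1, 5], 0),(9, 7, [2], 0),(9, 8, [1], 1),(9, 10, [1, 8], 1),(10, 3, [7], 1),(10, 4, [1], 1),(10, 5, [1,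 4], 0),(10, 7, [1, 4], 0),(10, 8, [1], 1),(10, 9, [7], 1)],
   [(4, 5, [2], 0),(4, 7, [1, 4], 0),(4, 8, [3], 2),(4, 9, [6], 0),(4, 10, [8], 0),(5, 4, [1, 3], 0),(5, 7, [2, 4], 0),(5, 8, [1, 2], 0),(5, 9, [7], 1),(5, 10, [3], 0),(7, 4, [9], 0),(7, 5, [7], 1),(7, 8, [1, 7], 0),(7, 9, [7], 1),(7, 10, [8], 0),(8, 4, [4], 0),(8, 5, [2], 0),(8, 7, [4], 0),(8, 9, [6], 0),(8, 10, [1, 3], 2),(9, 4, [1, 4], 0),(9, 5, [4], 1),(9, 7, [4], 1),(9, 8, [1, 4], 0),(9, 10, [7], 1),(10, 4, [1], 1),(10, 5, [2], 0),(10, 7, [1, 5], 0),(10, 8, [2], 0),(10, 9, [1], 1)],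
   [(5, 7, [9], 0),(5, 8, [3], 0),(5, 9, [1, 7], 0),(5, 10, [6], 0),(7, 5, [1], 0),(7, 8, [3], 0),(7, 9, [1, 2], 0),(7, 10, [3], 0),(8, 5, [4, 6], 1),(8, 7, [4, 6], 0),(8, 9, [3], 1),(8, 10, [9], 1),(9, 5, [4], 0),(9, 7, [2], 0),(9, 8, [4], 0),(9, 10, [3], 0),(10, 5, [3], 0),(10, 7, [1, 3], 1),(10, 8, [3], 0),(10, 9, [1, 2], 0)],
   [(7, 8, [9], 0),(7, 9, [2, 4], 0),(7, 10, [3], 0),(8, 7, [1], 0),(8, 9, [1, 4], 0),(8, 10, [3], 0),(9, 7, [7], 1),(9, 8, [9], 0),(9, 10, [7], 1),(10, 7, [2], 0),(10, 8, [2], 0),(10, 9, [3], 0)],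
   [],
   [(8, 9, [2], 0),(8, 10, [9], 0),(9, 8, [1, 3], 1),(9, 10, [9], 0),(10, 8, [2], 0),(10, 9, [2], 0)],
   [(9, 10, [2], 0),(10, 9, [1, 3], 1)],
   [],
   []],
  [[],
   [],
   [(3, 4, [2], 0),(3, 5, [2, 4], 0),(3, 6, [7], 1),(3, 8, [7], 0),(3, 9, [8], 0),(3, 10, [7], 1),(4, 3, [6], 0),(4, 5, [3], 1),(4, 6, [2, 5], 0),(4, 8, [3], 1),(4, 9, [6], 0),(4, 10, [1, 6], 0),(5, 3, [7], 1),(5, 4, [1, 8], 0),(5, 6, [2], 0),(5, 8, [10], 1),(5, 9, [10], 1),(5, 10, [4], 0),(6, 3, [1], 0),(6, 4, [1], 0),(6, 5, [1], 0),(6, 8, [5], 3),(6, 9, [1, 4], 0),(6, 10, [5], 0),(8, 3, [8], 0),(8, 4, [1, 6], 0),(8, 5, [10], 2),(8, 6, [8], 0),(8, 9, [8], 0),(8, 10, [1, 2], 0),(9, 3, [1], 1),(9, 4, [1, 6], 0),(9, 5, [3], 0),(9, 6, [3], 0),(9, 8, [1], 1),(9, 10, [7], 1),(10, 3, [2, 10], 0),(10, 4,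 [1], 1),(10, 5, [10], 2),(10, 6, [2], 0),(10, 8, [1], 1),(10, 9, [10], 1)],
   [(4, 5, [2], 0),(4, 6, [1, 9], 1),(4, 8, [3], 1),(4, 9, [3], 0),(4, 10, [1, 2], 0),(5, 4, [6], 0),(5, 6, [1, 2], 0),(5, 8, [1, 10], 0),(5, 9, [6], 0),(5, 10, [6], 0),(6, 4, [4], 0),(6, 5, [7], 1),(6, 8, [10], 1),(6, 9, [4], 0),(6, 10, [9], 0),(8, 4, [2, 4], 1),(8, 5, [9], 0),(8, 6, [5], 2),(8, 9, [8], 2),(8, 10, [6], 0),(9, 4, [7], 0),(9, 5, [7], 1),(9, 6, [10], 3),(9, 8, [7], 0),(9, 10, [2], 2),(10, 4, [1], 1),(10, 5, [7], 1),(10, 6, [3], 0),(10, 8, [4], 0),(10, 9, [1], 1)],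
   [(5, 6, [2], 0),(5, 8, [4], 2),(5, 9, [1, 9], 1),(5, 10, [1, 7], 1),(6, 5, [2, 4], 1),(6, 8, [5], 0),(6, 9, [9], 0),(6, 10, [5], 2),(8, 5, [9], 0),(8, 6, [1, 2], 1),(8, 9, [1, 2], 2),(8, 10, [6], 0),(9, 5, [1, 8], 0),(9, 6, [3], 0),(9, 8, [10], 1),(9, 10, [7], 0),(10, 5, [7], 0),(10, 6, [4], 0),(10, 8, [4], 0),(10, 9, [10], 1)],
   [(6, 8, [7], 0),(6, 9, [5], 0),(6, 10, [8], 0),(8, 6, [1], 0),(8, 9, [4], 2),(8, 10, [7], 0),(9, 6, [2, 4], 1),(9, 8, [10], 1),(9, 10, [8], 0),(10, 6, [4], 0),(10, 8, [1, 6], 0),(10, 9, [3], 0)],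
   [(8, 9, [9], 0),(8, 10, [8], 0),(9, 8, [1], 0),(9, 10, [2], 0),(10, 8, [1, 5], 3),(10, 9, [10], 1)],
   [],
   [(9, 10, [7], 0),(10, 9, [6], 0)],
   [],
   []],
  [[],
   [],
   [(3, 4, [5], 1),(3, 5, [1, 2], 2),(3, 6, [2], 0),(3, 7, [7], 0),(3, 9, [2], 2),(3, 10, [3, 6], 0),(4, 3, [4], 0),(4, 5, [3], 0),(4, 6, [8], 0),(4, 7, [1, 3], 1),(4, 9, [4], 0),(4, 10, [2, 4], 0),(5, 3, [5], 1),(5, 4, [10], 1),(5, 6, [2], 0),(5, 7, [1, 6], 0),(5, 9, [10], 1),(5, 10, [6], 1),(6, 3, [1], 0),(6, 4, [1], 0),(6, 5, [1], 0),(6, 7, [2], 0),(6, 9, [2], 0),(6, 10, [9], 1),(7, 3, [2], 0),(7, 4, [5], 3),(7, 5, [5], 3),(7, 6, [2], 0),(7, 9, [5], 3),(7, 10, [5], 3),(9, 3, [1], 1),(9, 4, [8], 0),(9, 5, [2], 0),(9, 6, [2], 0),(9, 7, [1, 2], 0),(9, 10, [5], 1),(10, 3, [3], 0),(10, 4, [1], 1),(10,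 5, [7], 0),(10, 6, [10], 2),(10, 7, [7], 0),(10, 9, [1, 6], 1)],
   [(4, 5, [4], 2),(4, 6, [8], 1),(4, 7, [2], 0),(4, 9, [1, 4], 1),(4, 10, [4], 0),(5, 4, [6], 0),(5, 6, [8], 1),(5, 7, [8], 0),(5, 9, [3], 0),(5, 10, [3], 0),(6, 4, [6], 0),(6, 5, [10], 1),(6, 7, [2], 0),(6, 9, [10], 1),(6, 10, [10], 1),(7, 4, [1], 0),(7, 5, [1], 0),(7, 6, [1], 0),(7, 9, [1, 5], 0),(7, 10, [1, 6], 1),(9, 4, [2], 2),(9, 5, [1, 3], 1),(9, 6, [2], 2),(9, 7, [10], 3),(9, 10, [7], 0),(10, 4, [1], 1),(10, 5, [1, 10], 0),(10, 6, [8], 1),(10, 7, [10], 3),(10, 9, [1], 1)],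
   [(5, 6, [1, 3], 0),(5, 7, [3], 0),(5, 9, [4], 0),(5, 10, [3], 0),(6, 5, [4], 0),(6, 7, [1, 2], 2),(6, 9, [5], 0),(6, 10, [4], 0),(7, 5, [6], 1),(7, 6, [4], 0),(7, 9, [10], 1),(7, 10, [6], 1),(9, 5, [2], 0),(9, 6, [3], 2),(9, 7, [3], 2),(9, 10, [1, 8], 1),(10, 5, [2, 5], 0),(10, 6, [5], 0),(10, 7, [1, 4], 1),(10, 9, [4], 0)],
   [(6, 7, [8], 0),(6, 9, [2], 0),(6, 10, [5], 0),(7, 6, [8], 0),(7, 9, [8], 0),(7, 10, [9], 0),(9, 6, [3], 0),(9, 7, [8], 0),(9, 10, [7], 0),(10, 6, [2, 7], 1),(10, 7, [1, 2], 0),(10, 9, [1, 9], 0)],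
   [(7, 9, [8], 1),(7, 10, [1, 5], 0),(9, 7, [1], 0),(9, 10, [3, 6], 1),(10, 7, [1, 10], 0),(10, 9, [8], 1)],
   [(9, 10, [5], 1),(10, 9, [1], 0)],
   [],
   [],
   []],
  [[],
   [],
   [(3, 4, [5], 1),(3, 5, [5], 1),(3, 6, [1, 2], 0),(3, 7, [2, 4], 1),(3, 8, [9], 1),(3, 10, [5], 1),(4, 3, [3], 0),(4, 5, [5], 1),(4, 6, [3], 0),(4, 7, [3], 0),(4, 8, [3, 6], 0),(4, 10, [3], 0),(5, 3, [2], 0),(5, 4, [2], 0),(5, 6, [1, 2], 0),(5, 7, [3], 0),(5, 8, [3], 0),(5, 10, [3], 0),(6, 3, [1], 0),(6, 4, [1], 0),(6, 5, [1], 0),(6, 7, [1, 2], 1),(6, 8, [6], 0),(6, 10, [1, 7], 0),(7, 3, [2], 0),(7, 4, [1, 6], 0),(7, 5, [9], 0),(7, 6, [2], 0),(7, 8, [9], 1),(7, 10, [3], 0),(8, 3, [9], 0),(8, 4, [3], 0),(8, 5, [9], 0),(8, 6, [1, 7], 0),(8, 7, [3], 0),(8, 10, [3], 0),(10, 3, [10], 1),(10, 4, [1],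 1),(10, 5, [1, 5], 0),(10, 6, [2], 0),(10, 7, [10], 2),(10, 8, [2], 0)],
   [(4, 5, [3], 2),(4, 6, [6], 0),(4, 7, [8], 0),(4, 8, [1, 9], 1),(4, 10, [9], 0),(5, 4, [5], 1),(5, 6, [1, 9], 1),(5, 7, [3], 0),(5, 8, [8], 1),(5, 10, [7], 1),(6, 4, [1, 8], 0),(6, 5, [9], 0),(6, 7, [8], 0),(6, 8, [8], 1),(6, 10, [10], 1),(7, 4, [1], 0),(7, 5, [1], 0),(7, 6, [1], 0),(7, 8, [3], 2),(7, 10, [5], 2),(8, 4, [7], 2),(8, 5, [9], 0),(8, 6, [7], 0),(8, 7, [1, 2], 1),(8, 10, [3], 0),(10, 4, [1], 1),(10, 5, [2], 2),(10, 6, [2, 4], 0),(10, 7, [1, 5], 0),(10, 8, [2], 2)],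
   [(5, 6, [3], 2),(5, 7, [4], 1),(5, 8, [3], 0),(5, 10, [9], 1),(6, 5, [6], 0),(6, 7, [1, 9], 1),(6, 8, [4], 0),(6, 10, [1, 6], 0),(7, 5, [2], 0),(7, 6, [2], 0),(7, 8, [3], 0),(7, 10, [3], 0),(8, 5, [1], 0),(8, 6, [1], 0),(8, 7, [1], 0),(8, 10, [2, 4], 0),(10, 5, [3], 0),(10, 6, [8], 0),(10, 7, [7], 0),(10, 8, [3], 0)],
   [(6, 7, [9], 0),(6, 8, [1, 5], 0),(6, 10, [7], 1),(7, 6, [3], 0),(7, 8, [5], 1),(7, 10, [3], 0),(8, 6, [2, 5], 1),(8, 7, [3], 0),(8, 10, [3], 0),(10, 6, [6], 0),(10, 7, [9], 0),(10, 8, [1, 10], 0)],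
   [(7, 8, [3], 2),(7, 10, [8], 0),(8, 7, [1, 5], 0),(8, 10, [3], 0),(10, 7, [10], 1),(10, 8, [1, 10], 0)],
   [(8, 10, [5], 1),(10, 8, [1], 0)],
   [],
   [],
   []],
  [[],
   [],
   [(3, 4, [10], 1),(3, 5, [5], 1),(3, 6, [5], 0),(3, 7, [2], 2),(3, 8, [2], 0),(3, 9, [7], 1),(4, 3, [5], 1),(4, 5, [3], 1),(4, 6, [3, 5], 1),(4, 7, [1, 8], 0),(4, 8, [3], 1),(4, 9, [5], 1),(5, 3, [8], 0),(5, 4, [1, 5], 1),(5, 6, [8], 0),(5, 7, [4], 1),(5, 8, [2], 0),(5, 9, [2], 2),(6, 3, [1], 0),(6, 4, [1], 0),(6, 5, [1], 0),(6, 7, [2], 0),(6, 8, [7], 0),(6, 9, [2], 0),(7, 3, [5], 1),(7, 4, [5], 1),(7, 5, [1, 4], 0),(7, 6, [1, 6], 1),(7, 8, [2], 0),(7, 9, [5], 1),(8, 3, [1, 3], 0),(8, 4, [4], 0),(8, 5, [1, 2], 0),(8, 6, [4], 0),(8, 7, [3, 10], 0),(8, 9, [7], 0),(9, 3, [2], 0),(9, 4, [4], 0),(9,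 5, [1, 2], 0),(9, 6, [1, 2], 0),(9, 7, [4], 1),(9, 8, [2], 0)],
   [(4, 5, [5], 1),(4, 6, [3], 0),(4, 7, [4], 0),(4, 8, [2], 0),(4, 9, [2], 0),(5, 4, [1, 4], 0),(5, 6, [9], 0),(5, 7, [1, 4], 2),(5, 8, [8], 0),(5, 9, [7], 1),(6, 4, [6], 0),(6, 5, [8], 0),(6, 7, [1, 3], 1),(6, 8, [8], 0),(6, 9, [2], 0),(7, 4, [1], 0),(7, 5, [1], 0),(7, 6, [1], 0),(7, 8, [2], 2),(7, 9, [3], 0),(8, 4, [5], 1),(8, 5, [5, 7], 2),(8, 6, [5, 7], 1),(8, 7, [5], 1),(8, 9, [2], 0),(9, 4, [3, 10], 0),(9, 5, [4], 1),(9, 6, [1, 2], 0),(9, 7, [4], 1),(9, 8, [1, 3], 0)],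
   [(5, 6, [6], 0),(5, 7, [3], 1),(5, 8, [1, 3], 0),(5, 9, [2], 2),(6, 5, [2, 8], 1),(6, 7, [3], 0),(6, 8, [1, 4], 2),(6, 9, [4], 0),(7, 5, [5], 2),(7, 6, [5], 0),(7, 8, [4], 0),(7, 9, [1, 8], 0),(8, 5, [1], 0),(8, 6, [1], 0),(8, 7, [1], 0),(8, 9, [2], 0),(9, 5, [1, 6], 0),(9, 6, [1, 4], 0),(9, 7, [5], 1),(9, 8, [5], 1)],
   [(6, 7, [6], 2),(6, 8, [9], 0),(6, 9, [8], 0),(7, 6, [2, 8], 1),(7, 8, [3], 1),(7, 9, [3, 5], 1),(8, 6, [8], 0),(8, 7, [6], 1),(8, 9, [5], 1),(9, 6, [1], 0),(9, 7, [1], 0),(9, 8, [1], 0)],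
   [(7, 8, [5], 0),(7, 9, [3], 0),(8, 7, [1, 4], 1),(8, 9, [5], 0),(9, 7, [1, 5], 0),(9, 8, [8], 0)],
   [(8, 9, [10], 1),(9, 8, [5], 1)],
   [],
   [],
   []]]

theorem dbl_cases : ∀ c d : F11, 2 ≤ c.val ∧ 2 ≤ d.val ∧ c ≠ d →
    (tabD.any fun x => decide (x.1 = c) && decide (x.2.1 = d) && seven (dbl c d) x.2.2.1 x.2.2.2) = true := by
  decide +kernel

theorem tri_cases : ∀ c d e f : F11,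
    2 ≤ c.val ∧ 2 ≤ d.val ∧ c ≠ d ∧ d.val < e.val ∧ d.val < f.val ∧ e ≠ f ∧ e ≠ c ∧ f ≠ c →
    (((tabT.getD c.val []).getD d.val []).any fun x =>
      decide (x.1 = e) && decide (x.2.1 = f) && seven (tri c d e f) x.2.2.1 x.2.2.2) = true := by
  decide +kernel

end CfsgLib.PrimeDegree.Eleven
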